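import Groth.Agent.IndEt.Basic
import Mathlib.RingTheory.Etale.Basic

/-!
# Ind-étale algebras are formally étale
-/

set_option autoImplicit false
universe u

open CategoryTheory Limits

namespace Groth.Agent.IndEtFormal

theorem formallyEtale_of_isIndEtale {A B : Type u} [CommRing A] [CommRing B] [Algebra A B]
    (h : EtPBC.IsIndEtale A B) : Algebra.FormallyEtale A B := by
  obtain ⟨J, _, _, D, c, hc, het, ⟨e⟩⟩ := h
  rw [Algebra.FormallyEtale.iff_comp_bijective]
  intro C _ _ I hI
  let φ : ∀ j, D.obj j ⟶ CommRingCat.mkUnder (CommRingCat.of A) B := fun j => c.ι.app j ≫ e.hom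
  let hcol : IsColimit (c.extend e.hom) := hc.extendIso _
  constructor
  · intro f g hfg
    have key : ∀ j x, f ((φ j).right.hom x) = g ((φ j).right.hom x) := fun j => by
      let := (D.obj j).hom.hom.toAlgebra
      have := het j
      let ψ : (D.obj j).right →ₐ[A] B :=
        { (φ j).right.hom with
          commutes' := fun r => congrArg (fun k : CommRingCat.of A ⟶ CommRingCat.of B => k.hom r)
            (Under.w (φ j)) }
      have h' : f.comp ψ = g.comp ψ := (Algebra.FormallyEtale.comp_bijective A _ I hI).1
        (show (Ideal.Quotient.mkₐ A I).comp (f.comp ψ) = (Ideal.Quotient.mkₐ A I).comp (g.comp ψ) by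
          rw [← AlgHom.comp_assoc, ← AlgHom.comp_assoc]; exact congrArg (fun k => AlgHom.comp k ψ) hfg)
      exact fun x => congrArg (fun k => k x) h'
    have := hcol.hom_ext (f := AlgHom.toUnder f) (f' := AlgHom.toUnder g)
      fun j => by ext x; exact key j x
    exact AlgHom.ext fun x => congrArg (fun k => k.right.hom x) this
  · intro g
    have lift : ∀ j, ∃ l : D.obj j ⟶ CommRingCat.mkUnder (CommRingCat.of A) C,
        (∀ x, Ideal.Quotient.mk I (l.right.hom x) = g ((φ j).right.hom x)) ∧
        ∀ l' : D.obj j ⟶ CommRingCat.mkUnder (CommRingCat.of A) C,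
          (∀ x, Ideal.Quotient.mk I (l'.right.hom x) = g ((φ j).right.hom x)) → l' = l := fun j => by
      let := (D.obj j).hom.hom.toAlgebra
      have := het j
      let ψ : (D.obj j).right →ₐ[A] B :=
        { (φ j).right.hom with
          commutes' := fun r => congrArg (fun k : CommRingCat.of A ⟶ CommRingCat.of B => k.hom r)
            (Under.w (φ j)) }
      obtain ⟨l, hl⟩ := (Algebra.FormallyEtale.comp_bijective A (D.obj j).right I hI).2 (g.comp ψ)
      refine ⟨Under.homMk (CommRingCat.ofHom l.toRingHom) (by ext r; exact l.commutes r),
        fun x => congrArg (fun k => k x) hl, fun l' hl' => ?_⟩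
      let m : (D.obj j).right →ₐ[A] C :=
        { l'.right.hom with
          commutes' := fun r => congrArg (fun k : CommRingCat.of A ⟶ CommRingCat.of C => k.hom r)
            (Under.w l') }
      have hm : m = l := (Algebra.FormallyEtale.comp_bijective A (D.obj j).right I hI).1
        (show (Ideal.Quotient.mkₐ A I).comp m = (Ideal.Quotient.mkₐ A I).comp l from
          AlgHom.ext fun x => (hl' x).trans (congrArg (fun k => k x) hl).symm)
      ext x
      exact congrArg (fun k => k x) hm
    choose l hl hu using lift
    let s : Cocone D :=
      { pt := CommRingCat.mkUnder (CommRingCat.of A) C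
        ι := { app := l
               naturality := fun i j a => by
                 refine (hu i _ fun x => ?_).trans (Category.comp_id _).symm
                 refine (hl j _).trans (congrArg g ?_)
                 exact congrArg (fun k => k.right.hom x) (show D.map a ≫ φ j = φ i by
                   simp only [φ, ← Category.assoc, c.w]) } }
    let d : CommRingCat.mkUnder (CommRingCat.of A) B ⟶ CommRingCat.mkUnder (CommRingCat.of A) C :=
      hcol.desc s
    let D' : B →ₐ[A] C :=
      { d.right.hom with
        commutes' := fun r => congrArg (fun k : CommRingCat.of A ⟶ CommRingCat.of C => k.hom r)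
          (Under.w d) }
    refine ⟨D', ?_⟩
    let q : CommRingCat.mkUnder (CommRingCat.of A) B ⟶ CommRingCat.mkUnder (CommRingCat.of A) (C ⧸ I) :=
      AlgHom.toUnder ((Ideal.Quotient.mkₐ A I).comp D')
    have : q = AlgHom.toUnder g := hcol.hom_ext fun j => by
      ext x
      refine Eq.trans ?_ (hl j x)
      exact congrArg (Ideal.Quotient.mk I)
        (congrArg (fun k => k.right.hom x) (hcol.fac s j))
    exact AlgHom.ext fun x => congrArg (fun k => k.right.hom x) this

end Groth.Agent.IndEtFormal
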